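import Cfsg.Agent.Lib.Grp.SchurM.PackMat

/-! Seven matrices of size twelve modulo seven. -/

set_option autoImplicit false
set_option maxRecDepth 100000

open Cfsg.Agent.Grp.SchurM.PackMat

namespace Cfsg.Agent.Spor.Cos.SuzMult

/-- The matrices. -/
def mats : MatData := ⟨12, 7, [[0x10641662325, 0x523436462425, 0x211536065633, 0x413036112441, 0x14412663323, 0x333012103641, 0x263635255460, 0x254343315042, 0x263565255260, 0x123136252410, 0x654141432010, 0x163636255460],
    [0x543004363426, 0x445103123250, 0x35233414211, 0x615403204066, 0x24620656350, 0x242301513514, 0x135116124420, 0x260255223050, 0x26011544063, 0x513503366506, 0x342604654530, 0x122606220435],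
    [0x440560354233, 0x4610546561, 0x352664634060, 0x235313423004, 0x425113113410, 0x255214421041, 0x612452301325, 0x462352523304, 0x425513143410, 0x505142146420, 0x62660204464, 0x413326004652],
    [0x50145363222, 0x300006416651, 0x250600414645, 0x455451363132, 0x50100363232, 0x155041003305, 0x660505643216, 0x230604413601, 0x130124303632, 0x524600160210, 0x431615054445, 0x2223556464],
    [0x444432442144, 0x213055665660, 0x541626334236, 0x332364265020, 0x346555232625, 0x143026562610, 0x453043614013, 0x623343065036, 0x143126615260, 0x54150160521, 0x324034163550, 0x313355035016],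
    [0x310235021266, 0x426065344303, 0x656666341305, 0x34411215156, 0x43366551621, 0x224466131360, 0x603540556611, 0x615122625056, 0x121011436302, 0x466542056510, 0x603330502221, 0x314434220612],
    [0x423653665061, 0x521523335035, 0x354124112211, 0x114236165666, 0x423653615066, 0x423653165066, 0x134053334060, 0x24353445053, 0x163616611411, 0x216555165466, 0x535040105643, 0x31305532542]]⟩

/-- The scalars of the squares. -/
def sqVal : List ℕ := [1, 1, 2, 5, 3, 1, 4]

/-- The scalars of the relators. -/
def relVal : List ℕ := [6, 2, 5, 3, 1, 4, 1, 5, 3, 6, 1, 4, 6, 2, 1, 6, 5, 6, 3, 5, 2, 2, 4, 5, 1, 1]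

end Cfsg.Agent.Spor.Cos.SuzMult
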