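import Cfsg.Prelude.Def_KGroupFacts
import Cfsg.Agent.Lib.Spor.Cos.Suz.Pres
import Cfsg.Agent.Lib.Spor.Cos.SuzMult.MatData

/-! A central extension with kernel the nonzero scalars modulo seven. -/

set_option autoImplicit false
set_option maxRecDepth 100000
set_option maxHeartbeats 4000000

open Cfsg Cfsg.Agent.Spor.Cos Cfsg.Agent.Grp.SchurM.PackMat
open scoped commutatorElement

namespace Cfsg.Agent.Spor.Cos.SuzMult

/-- The matrices of size twelve. -/
abbrev M12 : Type := Matrix (Fin mats.n) (Fin mats.n) (ZMod mats.p)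

instance : Fact (Nat.Prime mats.p) := ⟨by show Nat.Prime 7; norm_num⟩

instance : Nontrivial M12 := ⟨⟨0, 1, fun e =>
  absurd (congrFun (congrFun (show (0 : Matrix (Fin 12) (Fin 12) (ZMod 7)) = 1 from e) 0) 0) (by decide)⟩⟩

theorem chk_sq : ∀ s < 7, mats.chkMul [s, s] [] (sqVal.getD s 0) = true ∧ sqVal.getD s 0 % 7 ≠ 0 := by
  decide +kernel

theorem chk_rel : ∀ k < Suz.words.length,
    mats.chkMul (Suz.words.getD k []) [] (relVal.getD k 0) = true ∧ relVal.getD k 0 % 7 ≠ 0 := by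
  decide +kernel

theorem prod_scalar {w : List ℕ} {c : ℕ} (h : mats.chkMul w [] c = true) :
    mats.prod w = (c : ZMod mats.p) • (1 : M12) := by
  have := mats.prod_of_chk (by decide) (by decide) h
  simpa [MatData.prod] using this

theorem cast_ne_zero {c : ℕ} (h : c % 7 ≠ 0) : (c : ZMod mats.p) ≠ 0 := fun e =>
  h (Nat.mod_eq_zero_of_dvd ((ZMod.natCast_eq_zero_iff c 7).1 e))

theorem mat_sq {s : ℕ} (hs : s < 7) : mats.mat s * mats.mat s = (sqVal.getD s 0 : ZMod mats.p) • (1 : M12) := by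
  have := prod_scalar (chk_sq s hs).1
  simpa [MatData.prod] using this

/-- The unit of a matrix. -/
noncomputable def uT (s : ℕ) : M12ˣ :=
  if h : s < 7 then
    { val := mats.mat s
      inv := (sqVal.getD s 0 : ZMod mats.p)⁻¹ • mats.mat s
      val_inv := by
        rw [Matrix.mul_smul, mat_sq h, smul_smul, inv_mul_cancel₀ (cast_ne_zero (chk_sq s h).2), one_smul]
      inv_val := by
        rw [Matrix.smul_mul, mat_sq h, smul_smul, inv_mul_cancel₀ (cast_ne_zero (chk_sq s h).2), one_smul] }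
  else 1

/-- The nonzero scalars. -/
noncomputable def scal : (ZMod mats.p)ˣ →* M12ˣ := Units.map (algebraMap (ZMod mats.p) M12).toMonoidHom

theorem scal_val (c : (ZMod mats.p)ˣ) : (scal c : M12) = (c : ZMod mats.p) • (1 : M12) :=
  Algebra.algebraMap_eq_smul_one _

theorem scal_comm (c : (ZMod mats.p)ˣ) (a : M12ˣ) : scal c * a = a * scal c :=
  Units.ext (Algebra.commutes (c : ZMod mats.p) (a : M12))

theorem scal_injective : Function.Injective scal := Units.map_injective (algebraMap (ZMod mats.p) M12).injective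

instance : (scal.range).Normal := ⟨fun n hn a => by
  obtain ⟨c, rfl⟩ := hn
  rw [← scal_comm, mul_inv_cancel_right]
  exact ⟨c, rfl⟩⟩

theorem ev_uT : ∀ w : List ℕ, (∀ s ∈ w, s < 7) → (ev uT w : M12ˣ).val = mats.prod w
  | [], _ => by simp [ev, MatData.prod]
  | s :: w, h => by
    rw [ev, Units.val_mul, ev_uT w fun t ht => h t (List.mem_cons_of_mem _ ht)]
    simp [MatData.prod, uT, h s (List.mem_cons_self ..)]

theorem ev_mem_scal {w : List ℕ} (hw : ∀ s ∈ w, s < 7) {c : ℕ} (h : mats.chkMul w [] c = true) (hc : c % 7 ≠ 0) :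
    ev uT w ∈ scal.range :=
  ⟨Units.mk0 _ (cast_ne_zero hc), Units.ext (by rw [scal_val, ev_uT w hw, prod_scalar h]; rfl)⟩

theorem words_lt : ∀ w ∈ Suz.words, ∀ s ∈ w, s < 7 := by decide +kernel

theorem exists_proj : ∃ ρ : Spor.Suz →* M12ˣ ⧸ scal.range,
    ∀ s, ρ (Suz.g s) = QuotientGroup.mk' scal.range (uT s) := by
  refine Suz.pres.exists_hom (fun s => QuotientGroup.mk' scal.range (uT s)) (fun s => ?_) (fun w hw => ?_)
    fun s hs => ?_
  · rw [← map_mul, QuotientGroup.mk'_apply, QuotientGroup.eq_one_iff]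
    rcases Nat.lt_or_ge s 7 with hs | hs
    · have := ev_mem_scal (w := [s, s]) (by simp [hs]) (chk_sq s hs).1 (chk_sq s hs).2
      simpa [ev] using this
    · simp [uT, Nat.not_lt.2 hs]
  · rw [← ev_map, QuotientGroup.mk'_apply, QuotientGroup.eq_one_iff]
    obtain ⟨k, hk, rfl⟩ := List.getElem_of_mem hw
    have := chk_rel k hk
    rw [List.getD_eq_getElem _ _ hk] at this
    exact ev_mem_scal (words_lt _ hw) this.1 this.2
  · have hs7 : ¬ s < 7 := by simpa [Suz.alph] using hs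
    rw [uT, dif_neg hs7, map_one]

/-- A commutator of lifts of commuting elements is the given scalar. -/
structure CommPair (c : ℕ) : Prop where
  /-- two words -/
  exists_words : ∃ u w : List ℕ, (∀ s ∈ u, s < 7) ∧ (∀ s ∈ w, s < 7) ∧ ev Suz.g (u ++ w) = ev Suz.g (w ++ u) ∧
    mats.chkMul (u ++ w) (w ++ u) c = true

theorem exists_cover (h2 : CommPair 6) (h3 : CommPair 2) :
    ∃ (Γ : Type) (_ : Group Γ) (_ : Finite Γ) (σ : Γ →* Spor.Suz),
      Cfsg.IsStemExtension σ ∧ Nonempty (σ.ker ≃* Multiplicative (ZMod 6)) := by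
  obtain ⟨ρ, hρ⟩ := exists_proj
  have := Suz.finite
  let P : Subgroup (M12ˣ × Spor.Suz) :=
    ((QuotientGroup.mk' scal.range).comp (MonoidHom.fst _ _)).eqLocus (ρ.comp (MonoidHom.snd _ _))
  let σ : P →* Spor.Suz := (MonoidHom.snd _ _).comp P.subtype
  have hker : ∀ z : P, σ z = 1 → ∃ c, scal c = z.1.1 := fun z hz => by
    have h : QuotientGroup.mk' scal.range z.1.1 = ρ z.1.2 := z.2
    rw [show z.1.2 = 1 from hz, map_one, QuotientGroup.mk'_apply, QuotientGroup.eq_one_iff] at h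
    exact h
  let j : (ZMod mats.p)ˣ →* σ.ker :=
    { toFun := fun c => ⟨⟨(scal c, 1), by
        show QuotientGroup.mk' scal.range (scal c) = ρ 1
        rw [map_one, QuotientGroup.mk'_apply, QuotientGroup.eq_one_iff]
        exact ⟨c, rfl⟩⟩, rfl⟩
      map_one' := Subtype.ext (Subtype.ext (Prod.ext (map_one scal) rfl))
      map_mul' := fun a b => Subtype.ext (Subtype.ext (Prod.ext (map_mul scal a b) (one_mul _).symm)) }
  have hj : Function.Bijective j := by
    refine ⟨fun a b e => scal_injective (congrArg (fun z : σ.ker => z.1.1.1) e), fun z => ?_⟩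
    obtain ⟨c, hc⟩ := hker z.1 z.2
    exact ⟨c, Subtype.ext (Subtype.ext (Prod.ext hc z.2.symm))⟩
  have hlift : ∀ x : List ℕ, (∀ s ∈ x, s < 7) → ∃ z : P, z.1.1 = ev uT x ∧ σ z = ev Suz.g x := fun x _ =>
    ⟨⟨(ev uT x, ev Suz.g x), by
      show QuotientGroup.mk' scal.range (ev uT x) = ρ (ev Suz.g x)
      rw [ev_map, ev_map]
      exact congrArg (fun f => ev f x) (funext fun s => (hρ s).symm)⟩, rfl, rfl⟩
  have hcomm : ∀ {c : ℕ} (_ : c % 7 ≠ 0), CommPair c → ∀ v : (ZMod mats.p)ˣ, (v : ZMod mats.p) = (c : ZMod mats.p) →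
      (j v : P) ∈ commutator P := by
    rintro c - ⟨u, w, hu, hw, hc, hk⟩ v hv
    obtain ⟨U, hU, hU'⟩ := hlift u hu
    obtain ⟨W, hW, hW'⟩ := hlift w hw
    have key : (j v : P) = ⁅U, W⁆ := by
      rw [eq_comm, commutatorElement_def, mul_inv_eq_iff_eq_mul, mul_inv_eq_iff_eq_mul]
      refine Subtype.ext (Prod.ext ?_ ?_)
      · show U.1.1 * W.1.1 = scal v * W.1.1 * U.1.1
        rw [hU, hW, mul_assoc]
        refine Units.ext ?_
        rw [Units.val_mul, Units.val_mul, Units.val_mul, scal_val, ev_uT u hu, ev_uT w hw, ← mats.prod_append,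
          ← mats.prod_append, mats.prod_of_chk (by decide) (by decide) hk, hv, Matrix.smul_mul, one_mul]
      · show σ U * σ W = 1 * σ W * σ U
        rw [hU', hW', one_mul, ← ev_append, ← ev_append, hc]
    rw [key]
    exact Subgroup.commutator_mem_commutator (Subgroup.mem_top _) (Subgroup.mem_top _)
  refine ⟨P, inferInstance, inferInstance, σ, ⟨fun x => ?_, fun z hz => ?_, fun z hz => ?_⟩, ?_⟩
  · obtain ⟨a, ha⟩ := QuotientGroup.mk'_surjective scal.range (ρ x)
    exact ⟨⟨(a, x), ha⟩, rfl⟩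
  · obtain ⟨c, hc⟩ := hker z hz
    refine Subgroup.mem_center_iff.2 fun y => Subtype.ext (Prod.ext ?_ ?_)
    · show y.1.1 * z.1.1 = z.1.1 * y.1.1
      rw [← hc, scal_comm]
    · show y.1.2 * z.1.2 = z.1.2 * y.1.2
      rw [show z.1.2 = 1 from hz, mul_one, one_mul]
  · obtain ⟨c, hc⟩ := hj.2 ⟨z, hz⟩
    have hgen : ∀ c : (ZMod 7)ˣ, ∃ a < 2, ∃ b < 3, (c : ZMod 7) = (6 : ZMod 7) ^ a * (2 : ZMod 7) ^ b := by
      decide +kernel
    let v6 : (ZMod mats.p)ˣ := Units.mk0 _ (cast_ne_zero (c := 6) (by decide))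
    let v2 : (ZMod mats.p)ˣ := Units.mk0 _ (cast_ne_zero (c := 2) (by decide))
    obtain ⟨a, -, b, -, e⟩ := hgen c
    have ec : c = v6 ^ a * v2 ^ b := Units.ext (by
      simp only [Units.val_mul, Units.val_pow_eq_pow_val, v6, v2, Units.val_mk0, Nat.cast_ofNat]
      exact e)
    have hz' : z = (j c : P) := congrArg Subtype.val hc.symm
    rw [hz', ec, map_mul, map_pow, map_pow, Subgroup.coe_mul, Subgroup.coe_pow, Subgroup.coe_pow]
    exact mul_mem (pow_mem (hcomm (by decide) h2 v6 rfl) a) (pow_mem (hcomm (by decide) h3 v2 rfl) b)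
  · have : IsCyclic (ZMod mats.p)ˣ := inferInstance
    have hcard : Nat.card (ZMod mats.p)ˣ = 6 := by
      rw [Nat.card_eq_fintype_card, ZMod.card_units]; rfl
    exact ⟨(MulEquiv.ofBijective j hj).symm.trans
      (mulEquivOfCyclicCardEq (by rw [hcard, Nat.card_eq_fintype_card, Fintype.card_multiplicative, ZMod.card]))⟩

end Cfsg.Agent.Spor.Cos.SuzMult
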