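import Cfsg.Agent.Lib.Spor.Cos.Sift
import Cfsg.Agent.Lib.Spor.Cos.Suz.Order
import Cfsg.Agent.Lib.Spor.Cos.SuzMult.Cover

/-! Two pairs of commuting words with nontrivial commutators of lifts. -/

set_option autoImplicit false
set_option maxRecDepth 100000
set_option maxHeartbeats 4000000

open Cfsg Cfsg.Agent.Spor.Cos

namespace Cfsg.Agent.Spor.Cos.SuzMult

theorem pair2 : CommPair 6 :=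
  ⟨⟨[5, 3, 1, 2, 0, 1, 6, 2, 3, 0, 1, 2, 3, 4, 3, 1, 2, 3, 1, 2, 0, 1, 5, 3, 4, 1, 0, 2, 3, 0, 1, 2, 3, 1, 0, 1, 2, 3, 4, 3, 2, 1, 0, 1, 2, 3, 4, 1, 0, 1, 2, 3, 0, 1, 2, 3, 4, 3, 2, 1, 0, 1, 2, 3, 4], [6, 0, 1, 2, 3, 4, 0, 1, 2, 3, 2, 1, 6, 3, 0, 1, 2, 0, 1, 5, 3, 1, 2, 3, 0, 1, 2, 3, 4, 3, 2, 1, 0, 1, 2, 3, 4, 1, 0, 1, 2, 3, 1, 2, 4, 3, 2, 1, 0, 1, 2, 3, 4, 0, 1, 2, 3], by decide +kernel, by decide +kernel,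
    ev_eq_of_agree Suz.homA Suz.det (by decide +kernel) (by decide +kernel) (by decide +kernel),
    by decide +kernel⟩⟩

theorem pair3 : CommPair 2 :=
  ⟨⟨[5, 1, 2, 0, 1, 5, 3, 4, 2, 3, 1, 2, 0, 1, 6, 0, 1, 2, 3, 4, 3, 1, 2, 3, 1, 2, 0, 1, 5, 2, 3, 1, 2, 3, 4, 2, 3, 0, 1, 2, 3, 4, 3, 2, 1, 0, 1, 2, 3, 4, 0, 1, 2, 3, 0, 1, 2, 3, 0, 1, 2, 3, 0, 1, 2, 3, 0, 1, 2, 3, 4, 3, 2, 1, 0, 1, 2, 3, 4, 0, 1, 2, 3, 1], [5, 1, 2, 0, 1, 5, 6, 2, 3, 4, 2, 3, 1, 2, 0, 1, 6, 2, 3, 2, 0, 1, 0, 1, 5, 0, 1, 2, 4, 3, 2, 1, 0, 1, 2, 3, 4, 1], by decide +kernel, by decide +kernel,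
    ev_eq_of_agree Suz.homA Suz.det (by decide +kernel) (by decide +kernel) (by decide +kernel),
    by decide +kernel⟩⟩

end Cfsg.Agent.Spor.Cos.SuzMult
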