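import Cfsg.Agent.Lib.Grp.SchurM.TailChain
import Cfsg.Agent.Lib.Spor.Cos.Sift
import Cfsg.Agent.Lib.Spor.Cos.Suz.Order

/-! A Sylow 11-subgroup of the presented group with equations for the tails. -/

set_option autoImplicit false
set_option maxRecDepth 100000
set_option maxHeartbeats 8000000

open Cfsg Cfsg.Agent.Spor.Cos Cfsg.Agent.Grp.SchurM.Tails

namespace Cfsg.Agent.Spor.Cos.SuzMult

/-- Presentation of the Sylow 11-subgroup. -/
def pc11 : PC where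
  p := 11
  n := 1
  rhs := [[]]
  defs := []

/-- Transversals along the base. -/
def lev11 : List (ℕ × List (List ℕ)) :=
   [(0, [[], [0, 0, 0, 0, 0, 0, 0, 0, 0], [0, 0, 0, 0, 0, 0, 0, 0], [0, 0, 0, 0, 0], [0, 0, 0, 0], [0, 0, 0], [0, 0], [0, 0, 0, 0, 0, 0], [0, 0, 0, 0, 0, 0, 0, 0, 0, 0], [0], [0, 0, 0, 0, 0, 0, 0]])]

/-- Conjugation data. -/
def conj11 : List Conj :=
   [(0, [0, 0, 0, 0, 0, 0, 0, 0, 0, 0], [0, 0, 0, 0, 0, 0])]

/-- Equations between tails. -/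
def cert11 : Cert where
  eqns := [.fus [0] [0, 0, 0, 0, 0, 0, 0, 0, 0, 0, 0] []]
  free := 1
  combo := [[0, 0, 0]]

/-- The certificate. -/
def tab11 : TableCert where
  P := pc11
  ews := [[0, 1, 6, 5, 4, 1, 2, 3, 2, 1, 6, 5, 3, 1, 0, 1, 2, 3, 4, 1, 2, 3, 2, 1, 5, 3, 2, 3, 1, 2, 3, 4, 0, 2, 4, 3, 2, 1, 0, 1, 2, 3, 4, 0, 1, 2, 3, 1, 0, 1, 2, 3, 0, 1, 2, 3, 4, 3, 2, 1, 0, 1, 2, 3, 4, 0, 1, 2, 3, 0, 1, 2, 3]]
  gws := [[2, 1, 6, 5, 1, 2, 3, 4, 2, 3, 2, 1, 6, 1, 5, 4, 1, 0, 1, 0, 4, 3, 2, 1, 0, 1, 2, 3, 4, 0, 1, 2, 3, 0, 1, 2, 3, 1, 0, 1, 2, 3, 1, 2, 4, 3, 2, 1, 0, 1, 2, 3, 4, 2, 1]]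
  C := conj11
  K := cert11
  els := []

theorem tab11_rel : tab11.chkRel Suz.actA [0, 1781, 135, 1461, 46, 1] = true := by decide +kernel

theorem tab11_card : tab11.chkChain Suz.actA [0, 1781, 135, 1461, 46, 1] lev11 = true := by decide +kernel

theorem tab11_tails : tab11.K.check tab11.P tab11.C = true := by decide +kernel

theorem sylow11 : Nonempty (SylowCert Spor.Suz 11) :=
  haveI := Suz.finite
  TableCert.sylowCert_chain Suz.homA (by decide +kernel) Suz.det Suz.card_eq rfl (by decide) tab11_rel tab11_card tab11_tails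
    (le_of_eq rfl) (by decide +kernel)

end Cfsg.Agent.Spor.Cos.SuzMult
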