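import Cfsg.Agent.Lib.Grp.SchurM.TailChain
import Cfsg.Agent.Lib.Grp.SchurM.TailCheck
import Cfsg.Agent.Lib.Spor.Cos.Sift
import Cfsg.Agent.Lib.Spor.Cos.Suz.Order

/-! A Sylow 3-subgroup of the presented group with equations for the tails. -/

set_option autoImplicit false
set_option maxRecDepth 100000
set_option maxHeartbeats 8000000

open Cfsg Cfsg.Agent.Spor.Cos Cfsg.Agent.Grp.SchurM.Tails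

namespace Cfsg.Agent.Spor.Cos.SuzMult

/-- Presentation of the Sylow 3-subgroup. -/
def pc3 : PC where
  p := 3
  n := 7
  rhs := [[],
    [0, 1],
    [],
    [0, 2, 3],
    [1, 2, 4],
    [6],
    [0, 3, 5],
    [1, 3, 6],
    [2, 3, 5, 5, 6],
    [],
    [0, 4, 6],
    [1, 4, 5, 5],
    [2, 4, 5, 5, 6, 6],
    [3, 4],
    [],
    [0, 5],
    [1, 5],
    [2, 5],
    [3, 5],
    [4, 5],
    [],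
    [0, 6],
    [1, 6],
    [2, 6],
    [3, 6],
    [4, 6],
    [5, 6],
    []]
  defs := [(3, 2, 0), (4, 2, 1), (5, 3, 0), (6, 3, 1)]

/-- Transversals along the base. -/
def lev3 : List (ℕ × List (List ℕ)) :=
   [(1461, [[1, 2, 2, 3, 3, 5], [0, 2, 3, 5], [2, 6], [1, 2, 2, 6], [1, 2, 2, 3, 5], [1, 4], [3, 3, 6], [1, 3], [3, 3], [2, 2, 3, 3], [0, 0, 2], [1, 2, 2], [3, 5], [0, 2], [2, 3, 4, 5], [1], [3], [2, 4, 4, 5], [0, 6], [1, 2, 2, 3], [0, 2, 2], [0, 0, 1], [0, 0, 2, 5], [2, 2, 3], [2, 5], [1, 2, 2, 3, 3], [0], [4, 4], [2, 2, 3, 3, 4, 5], [2, 3, 3, 4], [0, 1], [2, 2, 4, 6], [2, 3, 6], [2, 2], [2, 4, 6], [2, 2, 3, 5], [2, 3, 3, 5], [2, 2, 3, 3, 6], [0, 2, 5], [2, 3, 4, 6], [2, 2, 3, 4, 6], [5], [6], [2, 2, 5], [2, 2, 6], [2, 4, 5], [2, 3, 4], [4], [2, 4], [3, 6], [0, 3], [2,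 3], [3, 4, 4], [2, 3, 5], [2, 3, 3, 6], [4, 6], [2, 2, 3, 6], [2, 2, 3, 3, 4, 6], [2, 2, 3, 4], [0, 0], [2, 2, 4], [0, 2, 3], [2, 2, 3, 4, 5], [2], [2, 4, 4, 6], [2, 2, 4, 5], [2, 3, 3], [], [0, 2, 6], [0, 0, 3], [3, 3, 4], [2, 2, 3, 3, 4], [2, 2, 3, 3, 5], [0, 2, 3, 6], [1, 1, 3], [3, 4], [0, 2, 2, 3], [0, 5], [0, 4, 4], [2, 4, 4], [2, 2, 3, 3, 4, 4]]),
    (0, [[], [1, 4, 4, 5, 6], [0, 1, 3, 5, 6, 6], [0, 3, 4, 5, 5, 6], [0, 1, 3, 5, 5], [0, 1, 1, 3, 4, 4, 5, 5, 6], [0, 1, 3, 6], [0, 0, 1, 3, 3, 4, 5, 5, 6], [0, 0, 1, 3, 3, 4, 5], [0, 3, 4, 5], [0, 0, 3, 3, 4, 4, 5, 6, 6], [0, 1, 1, 3, 4, 4, 6, 6], [0, 0, 3, 3, 4, 4, 6], [0, 0, 1, 1, 3, 3, 5, 5, 6], [1, 4, 4], [0, 0, 3, 3, 4, 4, 5, 5], [0, 1, 1, 3, 4, 4, 5], [1, 1, 4, 5], [1, 1, 4, 6, 6], [0, 3, 4, 6, 6], [0, 0, 1, 1, 3, 3,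 6, 6], [1, 4, 4, 5, 5, 6, 6], [0, 0, 1, 3, 3, 4, 6, 6], [5, 5, 6, 6], [0, 0, 1, 1, 3, 3, 5], [5, 6], [1, 1, 4, 5, 5, 6]])]

/-- Conjugation data. -/
def conj3 : List Conj :=
   [(0, [0, 1, 3, 4, 4], [3, 4]),
    (0, [0, 1, 3, 3, 4, 4, 6, 6], [1, 1, 4, 4, 6]),
    (0, [1, 1, 4, 4, 5, 5, 6], [0, 1, 1, 5, 5, 6]),
    (0, [0, 0, 6], [0, 3, 3, 4, 5, 5, 6]),
    (1, [0, 1, 1, 2, 2, 3, 4, 4, 5, 5, 6], [0, 2, 2, 3, 5, 6, 6]),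
    (1, [0, 3, 3, 4, 5, 5, 6], [0, 3, 5]),
    (1, [0, 2, 2, 3], [0, 1, 1, 2, 2, 3, 3, 5, 6, 6]),
    (2, [1, 1, 2, 4, 4, 5, 5], [0, 2, 4, 5, 5]),
    (2, [0, 0, 1, 1, 2, 2, 3, 5, 5], [0, 1, 2, 2, 5, 6]),
    (2, [0, 0, 1, 1, 3, 4, 4, 6], [0, 1]),
    (3, [0, 1, 1, 2, 3, 4, 5, 6, 6], [0, 3, 3, 4, 4, 6]),
    (3, [4, 5], [0, 3, 3, 4, 4]),
    (3, [0, 0, 1, 2, 2, 3, 4, 5], [0, 1, 4, 6]),
    (3, [0, 0, 1, 2, 2, 4, 4], [5, 5, 6])]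

/-- Equations between tails. -/
def cert3 : Cert where
  eqns := [.cons [2, 1, 0] 0 1,
    .cons [3, 1, 0] 0 1,
    .cons [3, 2, 0] 0 1,
    .cons [3, 2, 1] 0 1,
    .cons [4, 1, 0] 0 1,
    .cons [4, 2, 0] 0 1,
    .cons [4, 2, 1] 0 1,
    .cons [4, 3, 0] 0 1,
    .cons [4, 3, 1] 0 1,
    .cons [4, 3, 2] 0 1,
    .cons [5, 2, 0] 0 1,
    .cons [2, 2, 2, 0] 0 2,
    .cons [2, 0, 0, 0] 0 1,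
    .cons [2, 2, 2, 1] 0 2,
    .cons [2, 1, 1, 1] 0 1,
    .cons [2, 2, 2, 2] 0 1,
    .cons [3, 3, 3, 0] 0 2,
    .fus [0, 1, 2, 3] [0, 0, 0] [],
    .fus [0, 1, 2, 3] [1, 1, 1] [],
    .fus [0, 1, 2, 3] [2, 3, 0] [0, 3, 2],
    .fus [4, 5, 6] [1, 1, 0, 1, 1] [0, 0, 1, 0, 0],
    .fus [7, 8, 9] [1, 1, 1] [0, 0, 0],
    .fus [10, 11, 12, 13] [0, 0, 0] []]
  free := 1
  combo := [[2, 4, 4, 6, 6, 8, 8, 9, 9, 10, 10, 12, 12, 13, 13, 15, 16, 16, 17, 17, 18, 18],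
    [],
    [1, 1, 4, 4, 6, 7, 7, 8, 12, 13, 13, 15, 16, 16, 17, 17, 18],
    [],
    [],
    [0, 2, 2, 3, 4, 6, 6, 7, 7, 8, 8, 9, 9, 11, 12, 13, 16, 17, 17, 18, 18, 19, 19, 20, 20, 21, 22],
    [],
    [],
    [0, 0, 1, 1, 6, 6, 7, 8, 8, 10, 10, 12, 15, 17, 17, 18, 18, 20, 21],
    [1, 1, 2, 3, 5, 6, 6, 7, 7, 8, 8, 9, 9, 11, 12, 12, 13, 14, 15, 15],
    [0, 2, 3, 3, 4, 5, 6, 7, 8, 9, 9, 10],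
    [0, 0, 1, 1, 2, 4, 4, 5, 6, 8, 8, 11, 12, 13, 13, 14, 14, 16, 19, 19],
    [2, 2, 4, 5, 6, 6, 7, 7, 8, 9, 9, 11, 14, 16, 17, 17, 18, 19, 19, 20, 20],
    [2, 3, 3, 4, 5, 6, 7, 8, 9, 9, 10],
    [2, 3, 3, 4, 5, 5, 6, 6, 7, 7, 8, 9, 9, 10, 10, 11, 12, 13, 14, 14, 15, 16],
    [1, 2, 2, 3, 3, 5, 5, 6, 7, 8, 9, 10, 11, 11, 12, 12, 13, 13, 14, 14, 15, 16],
    [1, 3, 3, 4, 4, 5, 5, 6, 7, 7, 9, 11, 12, 13, 14, 15, 16, 16],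
    [1, 1, 2, 2, 6, 6, 11, 11, 12, 12, 13, 13, 14, 14, 16],
    [10, 10],
    [1, 1, 2, 4, 4, 6, 8, 9, 10, 10],
    [16, 16],
    [1, 1, 3, 3, 4, 4, 5, 5, 6, 8, 8, 9, 9, 11, 12, 13, 14, 15, 16, 16],
    [1, 1, 2, 3, 4, 4, 5, 6, 6, 7, 9, 10, 10, 11, 12, 13, 14, 15, 15, 16, 16],
    [15],
    [1, 1, 2, 4, 4, 6, 7, 8, 8, 10, 10],
    [7, 9, 10],
    [7, 8, 8, 9],
    [1, 2, 2, 3, 4, 5, 6, 6, 7, 7, 8, 8, 11, 12, 13, 13, 14, 14, 15, 16, 16]]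

/-- The certificate. -/
def tab3 : TableCert where
  P := pc3
  ews := [[5, 1, 2, 0, 1, 5, 6, 2, 3, 4, 2, 3, 1, 2, 0, 1, 6, 2, 3, 2, 0, 1, 0, 1, 5, 0, 1, 2, 4, 3, 2, 1, 0, 1, 2, 3, 4, 1],
    [5, 1, 2, 0, 1, 5, 3, 4, 2, 3, 1, 2, 0, 1, 6, 0, 1, 2, 3, 4, 3, 1, 2, 3, 1, 2, 0, 1, 5, 2, 3, 1, 2, 3, 4, 2, 3, 0, 1, 2, 3, 4, 3, 2, 1, 0, 1, 2, 3, 4, 0, 1, 2, 3, 0, 1, 2, 3, 0, 1, 2, 3, 0, 1, 2, 3, 0, 1, 2, 3, 4, 3, 2, 1, 0, 1, 2, 3, 4, 0, 1, 2, 3, 1],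
    [1, 5, 4, 0, 1, 2, 3, 1, 2, 0, 1, 6, 3, 4, 1, 2, 3, 2, 1, 5, 4, 3, 0, 4, 3, 2, 1, 0, 1, 2, 3, 4, 1, 0, 1, 2, 3, 0, 1, 2, 3, 0, 1, 2, 3, 1, 2, 4, 3, 2, 1, 0, 1, 2, 3, 4, 0, 1, 2, 3],
    [6, 2, 3, 1, 2, 0, 1, 5, 3, 4, 2, 3, 1, 2, 0, 1, 6, 2, 0, 1, 0, 1, 5, 3, 1, 2, 3, 0, 1, 2, 3, 4, 3, 1, 2, 3, 1, 0, 1, 2, 3, 0, 1, 2, 3, 4, 3, 2, 1, 0, 1, 2, 3, 4, 2, 1, 0, 1, 2, 3, 2, 1],
    [2, 1, 5, 1, 2, 3, 4, 0, 1, 2, 3, 2, 1, 6, 1, 5, 4, 3, 1, 2, 3, 4, 1, 2, 3, 2, 1, 5, 2, 3, 1, 2, 3, 4, 3, 0, 4, 3, 2, 1, 0, 1, 2, 3, 4, 0, 1, 2, 3, 0, 1, 2, 3, 0, 1, 2, 3, 1, 0, 1, 2, 3, 2],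
    [5, 4, 3, 2, 3, 4, 0, 1, 2, 3, 2, 0, 1, 6, 3, 4, 3, 1, 2, 3, 1, 2, 0, 1, 5, 0, 1, 2, 3, 4, 3, 2, 3, 0, 1, 2, 3, 0, 1, 2, 3, 0, 1, 2, 3, 4, 3, 2, 1, 0, 1, 2, 3, 4, 0, 1, 2, 3, 0, 1, 2, 3, 1, 2],
    [6, 3, 1, 2, 3, 4, 0, 1, 2, 3, 2, 0, 1, 6, 4, 1, 0, 1, 2, 3, 1, 2, 0, 1, 5, 4, 3, 1, 2, 3, 4, 0, 1, 2, 3, 0, 1, 2, 3, 0, 1, 2, 3, 1, 0, 1, 2, 3, 4, 3, 2, 1, 0, 1, 2, 3, 4, 0, 1, 2, 3, 1]]
  gws := [[2, 3, 4, 0, 1, 2, 3, 2, 1, 6, 3, 2, 3, 4, 1, 2, 3, 2, 1, 5, 2, 3, 1, 2, 3, 4, 0, 1, 2, 3, 4, 3, 2, 1, 0, 1, 2, 3, 4, 0, 1, 2, 3, 0, 1, 2, 3, 4, 3, 2, 1, 0, 1, 2, 3, 4, 2, 1, 0, 1, 2, 3],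
    [0, 1, 6, 3, 2, 3, 4, 0, 1, 2, 3, 2, 0, 1, 6, 1, 2, 3, 4, 1, 2, 3, 2, 1, 5, 4, 2, 3, 2, 3, 4, 3, 4, 3, 2, 1, 0, 1, 2, 3, 4, 1, 0, 1, 2, 3, 0, 1, 2, 3, 0, 1, 2, 3, 0, 1, 2, 3, 0, 1, 2, 3, 0, 1, 2, 3, 1],
    [6, 3, 2, 3, 4, 3, 1, 2, 3, 1, 2, 0, 1, 6, 1, 5, 3, 2, 3, 4, 1, 2, 3, 2, 0, 1, 5, 4, 3, 2, 3, 1, 2, 3, 4, 0, 1, 2, 3, 4, 3, 2, 1, 0, 1, 2, 3, 4, 1, 0, 1, 2, 3, 0, 1, 2, 3, 1, 0, 1, 2, 3, 4, 3, 2, 1, 0, 1, 2, 3, 4, 0, 1, 2, 3, 1, 2],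
    [3, 2, 3, 1, 2, 0, 1, 6, 5, 0, 1, 2, 3, 4, 0, 1, 2, 3, 2, 0, 1, 5, 3, 4, 0, 1, 0, 4, 3, 2, 1, 0, 1, 2, 3, 4, 1, 0, 1, 2, 3, 0, 1, 2, 3, 0, 1, 2, 3, 2, 4, 3, 2, 1, 0, 1, 2, 3, 4, 0, 1, 2, 3, 2]]
  C := conj3
  K := cert3
  els := []

theorem tab3_rel : tab3.chkRel Suz.actA [0, 1781, 135, 1461, 46, 1] = true := by decide +kernel

theorem tab3_card : tab3.chkChain Suz.actA [0, 1781, 135, 1461, 46, 1] lev3 = true := by decide +kernel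

/-- Counts of the tails. -/
def counts3 : List ℕ := [0x20010020000000,
    0x200001000020000000000000000,
    0x202001000202000000000000000,
    0x210210010020010000000000000,
    0x200020000002000000000000000,
    0x200202001002020000000000000,
    0x210020020120000000000000000,
    0x202000010000000000000000000,
    0x210000001000000000000000000,
    0x111000021000000000000000000,
    0x2000000000000000000,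
    0x2001201102100000002000000000,
    0x101001000001000000000,
    0x1020110120100200000000000000,
    0x220020100000000000000,
    0x100000000000000000000000,
    0x200000000000000000000,
    0x2121000010022100000000000101,
    0x20011221020000002000000201,
    0x1010020110010000220012000020,
    0x2111120001120022111010000100,
    0x121112112001101200101000202,
    0x2012122022210121120221100200]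

theorem tab3_some : tab3.K.eqns.all (fun q => (q.tails tab3.P tab3.C).isSome) = true := by decide +kernel

theorem tab3_counts : chkCounts tab3.P counts3 (eqTails tab3.P tab3.C tab3.K) 0 = true := by decide +kernel

theorem tab3_combos : chkCombos tab3.P tab3.K counts3 = true := by decide +kernel

theorem tab3_tails : tab3.K.check tab3.P tab3.C = true :=
  Cert.check_of_counts tab3_some tab3_counts tab3_combos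

theorem pow_free3 : ev Suz.g (tab3.flat (List.replicate 3 1)) = ev Suz.g [] :=
  ev_eq_of_agree Suz.homA Suz.det (by decide +kernel) (by decide +kernel) (by decide +kernel)

/-- The certificate with one free commutator. -/
theorem sylow3 : ∃ S : SylowExp Spor.Suz 3, S.m = 3 :=
  haveI := Suz.finite
  TableCert.sylowExp_chain Suz.homA (by decide +kernel) Suz.det Suz.card_eq rfl (by decide) tab3_rel tab3_card tab3_tails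
    (j := 1) (i := 0) (by decide +kernel) rfl rfl (m := 3) pow_free3 (by decide +kernel)

end Cfsg.Agent.Spor.Cos.SuzMult
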