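import Cfsg.Agent.Lib.Grp.SchurM.TailChain
import Cfsg.Agent.Lib.Spor.Cos.Sift
import Cfsg.Agent.Lib.Spor.Cos.Suz.Order

/-! A Sylow 5-subgroup of the presented group with equations for the tails. -/

set_option autoImplicit false
set_option maxRecDepth 100000
set_option maxHeartbeats 8000000

open Cfsg Cfsg.Agent.Spor.Cos Cfsg.Agent.Grp.SchurM.Tails

namespace Cfsg.Agent.Spor.Cos.SuzMult

/-- Presentation of the Sylow 5-subgroup. -/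
def pc5 : PC where
  p := 5
  n := 2
  rhs := [[],
    [0, 1],
    []]
  defs := []

/-- Transversals along the base. -/
def lev5 : List (ℕ × List (List ℕ)) :=
   [(0, [[], [0, 0, 1, 1], [0, 0, 0, 1, 1, 1, 1], [0, 0, 0, 1], [0, 0, 0, 0, 1, 1, 1, 1], [0, 0, 0, 1, 1, 1], [1, 1, 1], [0], [1, 1, 1, 1], [0, 1, 1, 1], [0, 0, 1], [1], [0, 1, 1], [0, 0, 0, 0], [0, 0, 0, 0, 1, 1, 1], [0, 0, 1, 1, 1, 1], [1, 1], [0, 1], [0, 0, 0], [0, 0, 0, 0, 1], [0, 0, 0, 0, 1, 1], [0, 0, 1, 1, 1], [0, 1, 1, 1, 1], [0, 0, 0, 1, 1], [0, 0]])]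

/-- Conjugation data. -/
def conj5 : List Conj :=
   [(0, [1], [1, 1, 1, 1]),
    (1, [0, 0, 0], [0]),
    (2, [0, 0, 0, 0, 1, 1, 1], [0, 1, 1, 1]),
    (2, [0, 0, 0], [0, 0])]

/-- Equations between tails. -/
def cert5 : Cert where
  eqns := [.fus [0] [0, 0, 0, 0, 0] [],
    .fus [1] [0, 0, 0, 0, 0] [],
    .fus [2, 3] [1, 0] [0, 1]]
  free := 3
  combo := [[1, 1, 1],
    [2, 2, 2],
    [0, 0, 0]]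

/-- The certificate. -/
def tab5 : TableCert where
  P := pc5
  ews := [[1, 0, 1, 2, 3, 4, 3, 2, 3, 1, 2, 0, 1, 6, 5, 3, 1, 2, 3, 4, 1, 2, 3, 2, 0, 1, 5, 4, 2, 1, 0, 2, 3, 4, 3, 2, 1, 0, 1, 2, 3, 4, 0, 1, 2, 3, 2, 4, 3, 2, 1, 0, 1, 2, 3, 4, 1, 2],
    [1, 0, 1, 5, 6, 2, 3, 4, 2, 3, 1, 2, 0, 1, 6, 3, 2, 3, 4, 0, 1, 2, 3, 2, 1, 5, 3, 4, 0, 1, 0, 4, 3, 2, 1, 0, 1, 2, 3, 4, 0, 1, 2, 3, 0, 1, 2, 3, 1, 0, 1, 2, 3, 2, 4, 3, 2, 1, 0, 1, 2, 3, 4, 0, 1, 2, 3, 4, 3, 2, 1, 0, 1, 2, 3, 4]]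
  gws := [[0, 1, 5, 6, 2, 1, 5, 3, 4, 2, 3, 1, 2, 0, 1, 6, 3, 2, 1, 0, 1, 2, 3, 4, 2, 3, 1, 2, 0, 1, 5, 3, 4, 0, 1, 0, 1, 2, 3, 0, 1, 2, 3, 4, 3, 2, 1, 0, 1, 2, 3, 4, 0, 1, 2, 3, 2, 4, 3, 2, 1, 0, 1, 2, 3, 4, 1],
    [2, 1, 0, 1, 5, 2, 1, 6, 5, 3, 4, 1, 2, 3, 2, 1, 6, 5, 0, 1, 2, 3, 4, 0, 1, 2, 3, 2, 1, 5, 4, 3, 2, 3, 4, 3, 1, 0, 1, 2, 3, 0, 1, 2, 3, 0, 1, 2, 3, 4, 3, 2, 1, 0, 1, 2, 3, 4, 0, 1, 2, 3, 0, 1, 2, 3, 0, 1, 2, 3, 0, 1, 2, 3],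
    [6, 2, 1, 0, 1, 5, 3, 2, 3, 4, 0, 1, 2, 3, 2, 1, 6, 2, 3, 4, 1, 0, 1, 2, 3, 1, 2, 0, 1, 5, 4, 3, 0, 1, 2, 3, 0, 1, 2, 3, 0, 1, 2, 3, 0, 1, 2, 3, 0, 1, 2, 3, 0, 1, 2, 3, 4, 3, 2, 1, 0, 1, 2, 3, 4, 0, 1, 2, 3, 4, 3, 2, 1, 0, 1, 2, 3, 4, 0, 1, 2, 3]]
  C := conj5
  K := cert5
  els := []

theorem tab5_rel : tab5.chkRel Suz.actA [0, 1781, 135, 1461, 46, 1] = true := by decide +kernel

theorem tab5_card : tab5.chkChain Suz.actA [0, 1781, 135, 1461, 46, 1] lev5 = true := by decide +kernel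

theorem tab5_tails : tab5.K.check tab5.P tab5.C = true := by decide +kernel

theorem sylow5 : Nonempty (SylowCert Spor.Suz 5) :=
  haveI := Suz.finite
  TableCert.sylowCert_chain Suz.homA (by decide +kernel) Suz.det Suz.card_eq rfl (by decide) tab5_rel tab5_card tab5_tails
    (le_of_eq rfl) (by decide +kernel)

end Cfsg.Agent.Spor.Cos.SuzMult
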