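import Cfsg.Agent.Lib.Spor.Cos.SuzMult.Tail2
import Cfsg.Agent.Lib.Spor.Cos.SuzMult.Tail3
import Cfsg.Agent.Lib.Spor.Cos.SuzMult.Tail5
import Cfsg.Agent.Lib.Spor.Cos.SuzMult.Tail7
import Cfsg.Agent.Lib.Spor.Cos.SuzMult.Tail11
import Cfsg.Agent.Lib.Spor.Cos.SuzMult.Tail13
import Cfsg.Agent.Lib.Spor.Cos.SuzMult.Pairs
import Cfsg.Agent.Lib.Grp.SchurM.SylowBounds

/-! The multiplier of the presented group is cyclic of order six. -/

set_option autoImplicit false
set_option maxRecDepth 100000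
set_option maxHeartbeats 4000000

open Cfsg Cfsg.Agent.Spor.Cos Cfsg.Agent.Grp.SchurM Cfsg.Agent.Grp.SchurM.Tails

namespace Cfsg.Agent.Spor.Cos.SuzMult

/-- Stem kernels are generated by an element of order dividing six. -/
theorem exists_gen {Δ : Type} [Group Δ] [Finite Δ] (σ : Δ →* Spor.Suz) (hσ : Cfsg.IsStemExtension σ) :
    ∃ c ∈ σ.ker, c ^ 6 = 1 ∧ σ.ker ≤ Subgroup.zpowers c := by
  have := Suz.finite
  obtain ⟨S, hS⟩ := sylow2
  obtain ⟨T, hT⟩ := sylow3
  have h := exists_gen_of_two S T (by rw [hS, hT]; decide) (fun q hq h2 h3 hd => ?_) σ hσ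
  · rwa [hS, hT] at h
  rw [Suz.card_eq, show 448345497600 = 2 ^ 13 * 3 ^ 7 * 5 ^ 2 * 7 * 11 * 13 by norm_num] at hd
  have key : ∀ r : ℕ, r.Prime → q ∣ r → q = r := fun r hr h => (Nat.prime_dvd_prime_iff_eq hq hr).1 h
  rcases (Nat.Prime.dvd_mul hq).1 hd with hd | h13
  · rcases (Nat.Prime.dvd_mul hq).1 hd with hd | h11
    · rcases (Nat.Prime.dvd_mul hq).1 hd with hd | h7
      · rcases (Nat.Prime.dvd_mul hq).1 hd with hd | h5
        · rcases (Nat.Prime.dvd_mul hq).1 hd with hd | hd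
          · exact absurd (key 2 Nat.prime_two (hq.dvd_of_dvd_pow hd)) h2
          · exact absurd (key 3 Nat.prime_three (hq.dvd_of_dvd_pow hd)) h3
        · obtain rfl := key 5 (by norm_num) (hq.dvd_of_dvd_pow h5)
          exact sylow5
      · obtain rfl := key 7 (by norm_num) h7
        exact sylow7
    · obtain rfl := key 11 (by norm_num) h11
      exact sylow11
  · obtain rfl := key 13 (by norm_num) h13
    exact sylow13

theorem multiplier : Cfsg.HasCyclicSchurMultiplier Spor.Suz 6 := by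
  refine ⟨exists_cover pair2 pair3, fun Δ _ _ σ hσ => ?_⟩
  obtain ⟨c, hc, hc6, hle⟩ := exists_gen σ hσ
  exact exists_surjective_zmod _ c hc hc6 hle

end Cfsg.Agent.Spor.Cos.SuzMult
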